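import Groth.Prelude.Def_EGA43
import Mathlib.AlgebraicGeometry.Morphisms.UniversallyClosed
import Mathlib.Topology.LocallyFinite

/-!
# Openness and universal openness at a point

Basic API for `EGA43.IsOpenAt` and `EGA43.IsUnivOpenAt`: composition, cancellation, base change,
and descent along finite jointly surjective families of closed maps.
-/

universe u

open CategoryTheory CategoryTheory.Limits AlgebraicGeometry

namespace Groth.Agent.OpenAt

section Top

variable {α β γ : Type*} [TopologicalSpace α] [TopologicalSpace β] [TopologicalSpace γ]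

theorem comp {f : α → β} {g : β → γ} {x : α} (hf : EGA43.IsOpenAt f x)
    (hg : EGA43.IsOpenAt g (f x)) : EGA43.IsOpenAt (g ∘ f) x := by
  intro U hU
  rw [Set.image_comp]
  exact hg _ (hf U hU)

theorem of_comp {f : α → β} {g : β → γ} {x : α} (hf : ContinuousAt f x)
    (h : EGA43.IsOpenAt (g ∘ f) x) : EGA43.IsOpenAt g (f x) := by
  intro V hV
  refine Filter.mem_of_superset (h _ (hf hV)) ?_
  rintro _ ⟨a, ha, rfl⟩
  exact ⟨f a, ha, rfl⟩

/-- If `f` becomes open over each member of a finite family of closed maps covering the target,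
in the sense that the preimage of the image of every neighbourhood is a neighbourhood of the
whole fibre, then `f` is open at the point. -/
theorem of_closed_family {ι : Type*} [Finite ι] {T : ι → Type*} [∀ i, TopologicalSpace (T i)]
    {f : α → β} {x : α} (v : ∀ i, T i → β) (hv : ∀ i, IsClosedMap (v i))
    (hsurj : ⋃ i, Set.range (v i) = Set.univ)
    (h : ∀ U ∈ nhds x, ∀ i, ∀ t, v i t = f x → (v i) ⁻¹' (f '' U) ∈ nhds t) :
    EGA43.IsOpenAt f x := by
  intro U hU
  have hW : ∀ i, ((v i) '' (interior ((v i) ⁻¹' (f '' U)))ᶜ)ᶜ ∈ nhds (f x) := fun i => by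
    refine ((hv i _ isOpen_interior.isClosed_compl).isOpen_compl).mem_nhds ?_
    rintro ⟨t, ht, e⟩
    exact ht (mem_interior_iff_mem_nhds.mpr (h U hU i t e))
  refine Filter.mem_of_superset (Filter.iInter_mem.mpr hW) ?_
  intro b hb
  obtain ⟨_, ⟨i, rfl⟩, t, rfl⟩ := Set.eq_univ_iff_forall.mp hsurj b
  by_contra hc
  exact Set.mem_iInter.mp hb i
    ⟨t, fun ht => hc (interior_subset ht : t ∈ (v i) ⁻¹' (f '' U)), rfl⟩

end Top

section Sch

variable {X Y X' Y' : Scheme.{u}}

theorem comp_base {Z : Scheme.{u}} (f : X ⟶ Y) (g : Y ⟶ Z) :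
    ((f ≫ g).base : X → Z) = g.base ∘ f.base := by
  funext z; simp

/-- Universal openness at a point, tested on an arbitrary cartesian square. -/
theorem isOpenAt_of_isPullback {a : X' ⟶ X} {b : X' ⟶ Y'} {f : X ⟶ Y} {c : Y' ⟶ Y}
    (sq : IsPullback a b f c) {x : X} (hf : EGA43.IsUnivOpenAt f x) (x' : X')
    (hx' : a.base x' = x) : EGA43.IsOpenAt b.base x' := by
  have h1 : EGA43.IsOpenAt (pullback.snd f c).base (sq.isoPullback.hom.base x') := by
    refine hf Y' c _ ?_
    rw [← Scheme.Hom.comp_apply, sq.isoPullback_hom_fst, hx']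
  have h2 : EGA43.IsOpenAt sq.isoPullback.hom.base x' := fun U hU =>
    (Scheme.Hom.isOpenEmbedding sq.isoPullback.hom).isOpenMap.image_mem_nhds hU
  rw [← sq.isoPullback_hom_snd, comp_base]
  exact comp h2 h1

/-- Universal openness at a point is stable under base change. -/
theorem isUnivOpenAt_of_isPullback {a : X' ⟶ X} {b : X' ⟶ Y'} {f : X ⟶ Y} {c : Y' ⟶ Y}
    (sq : IsPullback a b f c) {x : X} (hf : EGA43.IsUnivOpenAt f x) (x' : X')
    (hx' : a.base x' = x) : EGA43.IsUnivOpenAt b x' := by
  intro Y'' h x'' hx''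
  refine isOpenAt_of_isPullback ((IsPullback.of_hasPullback b h).paste_horiz sq) hf x'' ?_
  rw [Scheme.Hom.comp_apply, hx'', hx']

theorem isUnivOpenAt_comp {Z : Scheme.{u}} {f : X ⟶ Y} {g : Y ⟶ Z} {x : X}
    (hf : EGA43.IsUnivOpenAt f x) (hg : EGA43.IsUnivOpenAt g (f.base x)) :
    EGA43.IsUnivOpenAt (f ≫ g) x := by
  intro Z' g' x' hx'
  obtain ⟨x'', rfl⟩ :=
    (Scheme.Hom.surjective (pullbackRightPullbackFstIso g g' f).hom) x'
  rw [← Scheme.Hom.comp_apply, pullbackRightPullbackFstIso_hom_fst] at hx'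
  have h1 := hf _ (pullback.fst g g') x'' hx'
  have h2 := hg Z' g' ((pullback.snd f (pullback.fst g g')).base x'') (by
    rw [← Scheme.Hom.comp_apply, ← pullback.condition, Scheme.Hom.comp_apply, hx'])
  have h3 := comp h1 h2
  rw [← comp_base, ← pullbackRightPullbackFstIso_hom_snd, comp_base] at h3
  exact of_comp (pullbackRightPullbackFstIso g g' f).hom.continuous.continuousAt h3

theorem isUnivOpenAt_of_comp {Z : Scheme.{u}} {f : X ⟶ Y} {g : Y ⟶ Z} {x : X}
    (h : EGA43.IsUnivOpenAt (f ≫ g) x) : EGA43.IsUnivOpenAt g (f.base x) := by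
  intro Z' g' y' hy'
  obtain ⟨x'', h1, rfl⟩ := Scheme.Pullback.exists_preimage_pullback
    (f := f) (g := pullback.fst g g') x y' hy'.symm
  have h2 := isOpenAt_of_isPullback
    (((IsPullback.of_hasPullback f (pullback.fst g g')).flip).paste_horiz
      ((IsPullback.of_hasPullback g g').flip)).flip h x'' h1
  rw [comp_base] at h2
  exact of_comp (pullback.snd f (pullback.fst g g')).continuous.continuousAt h2

/-- Openness at a point descends along a finite jointly surjective family of closed maps. -/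
theorem isOpenAt_of_closed_family {ι : Type*} [Finite ι] {T : ι → Scheme.{u}} (f : X ⟶ Y) (x : X)
    (v : ∀ i, T i ⟶ Y) (hv : ∀ i, IsClosedMap (v i).base)
    (hsurj : ⋃ i, Set.range (v i).base = Set.univ)
    (h : ∀ i, ∀ x₁ : ↥(pullback f (v i)), (pullback.fst f (v i)).base x₁ = x →
      EGA43.IsOpenAt (pullback.snd f (v i)).base x₁) :
    EGA43.IsOpenAt f.base x := by
  refine of_closed_family (T := fun i => ↥(T i)) (fun i => (v i).base) hv hsurj
    (fun U hU i t ht => ?_)
  obtain ⟨x₁, h1, rfl⟩ :=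
    Scheme.Pullback.exists_preimage_pullback (f := f) (g := v i) x t ht.symm
  refine Filter.mem_of_superset (h i x₁ h1 _
    ((pullback.fst f (v i)).continuous.continuousAt.preimage_mem_nhds (h1.symm ▸ hU))) ?_
  rintro _ ⟨z, hz, rfl⟩
  refine ⟨(pullback.fst f (v i)).base z, hz, ?_⟩
  rw [← Scheme.Hom.comp_apply, pullback.condition, Scheme.Hom.comp_apply]

/-- Universal openness at a point descends along a finite jointly surjective family of
universally closed morphisms. -/
theorem isUnivOpenAt_of_closed_family {ι : Type*} [Finite ι] {T : ι → Scheme.{u}} (f : X ⟶ Y)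
    (x : X) (v : ∀ i, T i ⟶ Y) (hv : ∀ i, UniversallyClosed (v i))
    (hsurj : ⋃ i, Set.range (v i).base = Set.univ)
    (h : ∀ i, ∀ x₁ : ↥(pullback f (v i)), (pullback.fst f (v i)).base x₁ = x →
      EGA43.IsUnivOpenAt (pullback.snd f (v i)) x₁) :
    EGA43.IsUnivOpenAt f x := by
  intro Y' g x' hx'
  refine isOpenAt_of_closed_family (pullback.snd f g) x' (fun i => pullback.fst g (v i))
    (fun i => by have := hv i; exact (pullback.fst g (v i)).isClosedMap) ?_ ?_
  · refine Set.eq_univ_iff_forall.mpr fun y' => ?_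
    obtain ⟨_, ⟨i, rfl⟩, t, ht⟩ := Set.eq_univ_iff_forall.mp hsurj (g.base y')
    obtain ⟨z, hz, -⟩ :=
      Scheme.Pullback.exists_preimage_pullback (f := g) (g := v i) y' t ht.symm
    exact Set.mem_iUnion.mpr ⟨i, z, hz⟩
  · intro i x₁ hx₁
    have outer := (IsPullback.of_hasPullback (pullback.snd f g) (pullback.fst g (v i))).paste_horiz
      (IsPullback.of_hasPullback f g)
    rw [pullback.condition] at outer
    refine isOpenAt_of_isPullback (IsPullback.of_right'
      outer (IsPullback.of_hasPullback f (v i))) (h i _ ?_) x₁ rfl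
    rw [← Scheme.Hom.comp_apply, IsPullback.lift_fst, Scheme.Hom.comp_apply, hx₁, hx']

end Sch

end Groth.Agent.OpenAt
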